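import Cfsg.Agent.Lib.CosetEnum.TC
set_option autoImplicit false
set_option maxRecDepth 100000
namespace T54.He17
open H54 (Tr force band)
open H18.TC
noncomputable def T_0 : Tr := (.node (nat_lit 0) (.leaf (nat_lit 0x1814b00000000012f11a00000000c23b0000ff0001f70000da00002415e0000cd0000ac0000e900001829e00000028d16f07e25e08c01822d0000000000ba05f1e709b00c2af00000000024e1c703f00000034f31e19d27f18c00017901f0000002c610926e13806c04d02e)) (.leaf (nat_lit 0x4833e2bf2f60003062e62d632603c21f0001ab0002091bd1dc000)))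
noncomputable def J_0 : Tr := (.node (nat_lit 0) (.leaf (nat_lit 0x2000000000000000000204004000000000822480000000010000002016000000800800007218800000000080000020020000000000000002026000000000000020207404004081900001820c800000000000000000000400400000000042008000000000000000203400000080080000920080400c081500000020540000008150100100000000000000010030000000000000000000)) (.leaf (nat_lit 0x804004080980000000020402c08058000200004000000800800000000000004000080000)))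
noncomputable def F_0 : Tr := (.node (nat_lit 2) (.node (nat_lit 0) (.leaf (nat_lit 0)) (.node (nat_lit 1) (.leaf (nat_lit 0)) (.leaf (nat_lit 0)))) (.node (nat_lit 4) (.node (nat_lit 3) (.leaf (nat_lit 0)) (.leaf (nat_lit 0))) (.node (nat_lit 5) (.leaf (nat_lit 0)) (.leaf (nat_lit 0)))))
noncomputable def T : Tr := T_0
noncomputable def J : Tr := J_0
noncomputable def F : Tr := F_0
noncomputable def row (u : ℕ) : ℕ := Nat.land (Nat.shiftRight (force (Nat.shiftRight u (nat_lit 3)) T.get) (Nat.mul (Nat.land u (nat_lit 7)) (nat_lit 108))) (nat_lit 0xfffffffffffffffffffffffffff)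
noncomputable def jrow (u : ℕ) : ℕ := Nat.land (Nat.shiftRight (force (Nat.shiftRight u (nat_lit 3)) J.get) (Nat.mul (Nat.land u (nat_lit 7)) (nat_lit 152))) (nat_lit 0xffffffffffffffffffffffffffffffffffffff)
noncomputable def fget (k fx : ℕ) : ℕ := F.get (Nat.add k fx)
noncomputable def wt0 : LT := (.node (nat_lit 1) (.node (nat_lit 0) (.leaf 5 0 [nat_lit 24, nat_lit 0, nat_lit 24])
(.leaf 61 0 [nat_lit 24, nat_lit 36, nat_lit 24, nat_lit 36, nat_lit 24, nat_lit 36, nat_lit 24, nat_lit 36, nat_lit 24, nat_lit 36]))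
(.leaf 0 0 []))
noncomputable def wt1 : LT := (.node (nat_lit 1) (.node (nat_lit 0) (.leaf 65 0 [nat_lit 60, nat_lit 36, nat_lit 24])
(.leaf 25 0 [nat_lit 72, nat_lit 12, nat_lit 72]))
(.leaf 0 0 []))
noncomputable def wt2 : LT := (.node (nat_lit 1) (.node (nat_lit 0) (.leaf 33 0 [nat_lit 60, nat_lit 24, nat_lit 60])
(.leaf 35 0 [nat_lit 72, nat_lit 24, nat_lit 72]))
(.leaf 0 0 []))
noncomputable def wt3 : LT := (.node (nat_lit 1) (.node (nat_lit 0) (.leaf 65 2 [nat_lit 24, nat_lit 12, nat_lit 60])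
(.leaf 19 3 [nat_lit 12, nat_lit 36, nat_lit 12]))
(.leaf 0 0 []))
noncomputable def wt4 : LT := (.node (nat_lit 1) (.node (nat_lit 0) (.leaf 59 0 [nat_lit 0, nat_lit 12, nat_lit 24, nat_lit 0, nat_lit 12, nat_lit 24, nat_lit 0, nat_lit 12, nat_lit 24])
(.leaf 21 3 [nat_lit 12, nat_lit 48, nat_lit 12]))
(.leaf 0 0 []))
noncomputable def wt5 : LT := (.node (nat_lit 2) (.node (nat_lit 0) (.leaf 65 1 [nat_lit 36, nat_lit 24, nat_lit 12])
(.node (nat_lit 1) (.leaf 23 3 [nat_lit 12, nat_lit 60, nat_lit 12])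
(.leaf 57 3 [nat_lit 72, nat_lit 48, nat_lit 60, nat_lit 72])))
(.leaf 0 0 []))
noncomputable def wt6 : LT := (.node (nat_lit 0) (.leaf 43 5 [nat_lit 36, nat_lit 72, nat_lit 36, nat_lit 72, nat_lit 36])
(.leaf 0 0 []))
noncomputable def wt7 : LT := (.node (nat_lit 3) (.node (nat_lit 1) (.node (nat_lit 0) (.leaf 61 0 [nat_lit 24, nat_lit 36, nat_lit 24, nat_lit 36, nat_lit 24, nat_lit 36, nat_lit 24, nat_lit 36, nat_lit 24, nat_lit 36, nat_lit 0])
(.leaf 16 0 [nat_lit 12, nat_lit 24, nat_lit 12, nat_lit 24, nat_lit 12, nat_lit 24]))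
(.node (nat_lit 2) (.leaf 38 1 [nat_lit 48, nat_lit 36, nat_lit 48, nat_lit 36, nat_lit 48, nat_lit 36])
(.leaf 12 0 [nat_lit 0, nat_lit 72, nat_lit 0, nat_lit 72])))
(.leaf 0 0 []))
noncomputable def sl : List (ℕ × ℕ × List ℕ × List ℕ) := []
/-- the inverse column -/
noncomputable def icol (x : ℕ) : ℕ := x
noncomputable def inv (x : ℕ) : ℕ := x
def cols : List ℕ := [nat_lit 84, nat_lit 0, nat_lit 12, nat_lit 24, nat_lit 36, nat_lit 48, nat_lit 60, nat_lit 72]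
noncomputable def cl : CL := (.cons (nat_lit 0) (nat_lit 0) (nat_lit 0) (nat_lit 0) wt0
(.cons (nat_lit 12) (nat_lit 12) (nat_lit 19) (nat_lit 1) wt1
(.cons (nat_lit 24) (nat_lit 24) (nat_lit 38) (nat_lit 2) wt2
(.cons (nat_lit 36) (nat_lit 36) (nat_lit 57) (nat_lit 3) wt3
(.cons (nat_lit 48) (nat_lit 48) (nat_lit 76) (nat_lit 4) wt4
(.cons (nat_lit 60) (nat_lit 60) (nat_lit 95) (nat_lit 5) wt5
(.cons (nat_lit 72) (nat_lit 72) (nat_lit 114) (nat_lit 6) wt6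
.nil)))))))
def rels : List (List ℕ) := [[0, 0],
[0, 1, 0, 1, 0, 1, 0, 1],
[0, 2, 0, 2],
[0, 3, 0, 3],
[0, 4, 0, 4],
[0, 5, 0, 5],
[0, 6, 0, 6],
[1, 1],
[1, 2, 1, 2, 1, 2],
[1, 3, 1, 3],
[1, 4, 1, 4],
[1, 5, 1, 5],
[1, 6, 1, 6],
[2, 2],
[2, 3, 2, 3, 2, 3, 2, 3, 2, 3, 2, 3, 2, 3, 2, 3, 2, 3, 2, 3],
[2, 4, 2, 4],
[2, 5, 2, 5],
[2, 6, 2, 6],
[3, 3],
[3, 4, 3, 4, 3, 4],
[3, 5, 3, 5, 3, 5],
[3, 6, 3, 6, 3, 6],
[4, 4],
[4, 5, 4, 5],
[4, 6, 4, 6],
[5, 5],
[5, 6, 5, 6, 5, 6, 5, 6],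
[6, 6],
[4, 6, 5, 6, 5],
[4, 2, 1, 0, 2, 1, 0, 2, 1, 0],
[0, 3, 2, 3, 2, 3, 2, 3, 2, 3, 2],
[2, 3, 5, 6, 2, 3, 5, 6, 2, 3, 5, 6, 2, 3, 5, 6],
[1, 2, 3, 5]]
def subs : List (List ℕ) := []
noncomputable def chk : ℕ → Bool := rowChk row jrow fget sl cols (nat_lit 1) (nat_lit 10) (nat_lit 4095) (nat_lit 15) (nat_lit 4096) (nat_lit 84) (nat_lit 96) (nat_lit 524287) (nat_lit 6) (nat_lit 63) (nat_lit 1) (nat_lit 1) cl (nat_lit 133) wt7
theorem p0 : allB chk 4 0 = true := by decide +kernel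
theorem all_chk : AllLt chk 10 := by
  have h := AllLt.zero chk
  have h := h.step 10 p0 (by decide +kernel)
  exact h
/-- column `x` of the final table -/
noncomputable def tab (x u : ℕ) : ℕ := ft fget (nat_lit 6) (nat_lit 63) (nat_lit 1) (nat_lit 1) (Nat.mul x (nat_lit 1)) u
theorem enum {G Ω : Type*} [Group G] [MulAction G Ω] (g : ℕ → G) (ω : Ω)
    (hinv : ∀ x, g (icol x) = (g x)⁻¹) (h1 : g 7 = 1)
    (hrels : ∀ R ∈ rels, ev g R = 1) (hsubs : ∀ S ∈ subs, ev g S • ω = ω) :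
    ∃ pt : ℕ → Ω, pt 0 = ω ∧ (∀ K : Subgroup G, (∀ x, g x ∈ K) → ∀ v, ∃ k ∈ K, pt v = k • ω) ∧
      ∀ x, x < 7 → ∀ u, u < 1 → tab x u < 1 ∧ g x • pt u = pt (tab x u) :=
  sound_scaled g ω row jrow fget sl inv icol cols (nat_lit 1) (nat_lit 10) (nat_lit 4095) (nat_lit 15) (nat_lit 4096) (nat_lit 84) (nat_lit 96) (nat_lit 524287) (nat_lit 6) (nat_lit 63) (nat_lit 1) (nat_lit 1) 4 cl (nat_lit 133) wt7 rels subs 12 (nat_lit 1) 7
    (fun _ => rfl) hinv h1 hrels hsubs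
    (by decide +kernel) (by decide +kernel) all_chk
end T54.He17
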